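import Groth.Agent.GrModX.ScalarExt
import Mathlib.RingTheory.IsTensorProduct

/-!
# The universal property of a pushout of rings, for additive maps
-/

universe u

namespace Groth.Agent.GrModX

variable {R S A B : Type u} [CommRing R] [CommRing S] [CommRing A] [CommRing B]

theorem existsUnique_addHom_of_isPushout [Algebra R S] [Algebra R A] [Algebra S B] [Algebra A B] [Algebra R B]
    [IsScalarTower R S B] [IsScalarTower R A B] [Algebra.IsPushout R S A B] (Q : Type u) [AddCommGroup Q] [Module S Q]
    (w : A →+ Q) (hw : ∀ r a, w (algebraMap R A r * a) = algebraMap R S r • w a) :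
    ∃! G : B →+ Q, (∀ s b, G (algebraMap S B s * b) = s • G b) ∧ ∀ a, G (algebraMap A B a) = w a := by
  letI : Module R Q := Module.compHom Q (algebraMap R S)
  haveI : IsScalarTower R S Q := .of_algebraMap_smul fun _ _ => rfl
  have hb : IsBaseChange S (IsScalarTower.toAlgHom R A B).toLinearMap :=
    (inferInstance : Algebra.IsPushout R S A B).out
  let w' : A →ₗ[R] Q :=
    { toFun := w, map_add' := map_add w,
      map_smul' := fun r a => by rw [Algebra.smul_def]; exact hw r a }
  refine ⟨(hb.lift w').toAddMonoidHom, ⟨fun s b => ?_, fun a => hb.lift_eq w' a⟩, fun G' hG' => ?_⟩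
  · show hb.lift w' (algebraMap S B s * b) = s • hb.lift w' b
    rw [← Algebra.smul_def, map_smul]
  · have e : ({ toFun := G', map_add' := map_add G',
                map_smul' := fun s b => by rw [Algebra.smul_def]; exact hG'.1 s b } : B →ₗ[S] Q) = hb.lift w' :=
      hb.algHom_ext _ _ fun a => (hG'.2 a).trans (hb.lift_eq w' a).symm
    exact AddMonoidHom.ext fun b => LinearMap.congr_fun e b

end Groth.Agent.GrModX
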