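import Groth.Agent.QuotRep.HighBC
import Groth.Agent.ProjSerre.Vanish
import Groth.Agent.Exactness.Functor
import Groth.Prelude.Def_ega3

/-!
# High twists keep an exact sequence exact on global sections
-/

universe u

set_option backward.isDefEq.respectTransparency false
set_option backward.isDefEq.respectTransparency.types false
set_option maxHeartbeats 1000000
set_option synthInstance.maxHeartbeats 400000

open CategoryTheory CategoryTheory.Limits AlgebraicGeometry TopologicalSpace Opposite
open scoped Groth.Agent.H23.PicMul

noncomputable section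

namespace Groth.Agent.GrModX

open Groth.Agent

/-- Twisting by an invertible module keeps a sequence exact on sections once `H¹` of the twisted kernel of
the first map vanishes. -/
theorem exact_app_top_of_vanishing {A : Type u} [CommRing A] {X : Scheme.{u}} [X.Over (Spec (CommRingCat.of A))]
    {P : X.Modules} (hP : PicF.IsInvertible P) (C : ShortComplex X.Modules) (hC : C.Exact)
    (h : Subsingleton (Coh.HH X ((AmpleVan.tw P).obj (kernel (kernel.lift C.g C.f C.zero))) 1)) :
    Function.Exact (((AmpleVan.tw P).map C.f).app ⊤) (((AmpleVan.tw P).map C.g).app ⊤) := by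
  let T := AmpleVan.tw P
  haveI : T.IsEquivalence := AmpleVan.isEquivalence_tw hP
  haveI : T.Additive := Functor.additive_of_preserves_binary_products _
  let e : C.X₁ ⟶ kernel C.g := kernel.lift C.g C.f C.zero
  haveI : Epi e := hC.epi_kernelLift
  have hs2 : (ShortComplex.mk (kernel.ι e) e (kernel.condition e)).ShortExact :=
    { exact := ShortComplex.exact_of_f_is_kernel _ (kernelIsKernel e) }
  have ht2 := hs2.map_of_exact T
  have hu : T.map C.f = T.map e ≫ T.map (kernel.ι C.g) := by rw [← T.map_comp, kernel.lift_ι]
  intro z
  constructor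
  · intro hz
    let S' : ShortComplex X.Modules := ShortComplex.mk (kernel.ι C.g) C.g (kernel.condition C.g)
    have hS' : S'.Exact := ShortComplex.exact_of_f_is_kernel S' (kernelIsKernel C.g)
    have hk := hS'.map T
    haveI : Mono (S'.map T).f := inferInstanceAs (Mono (T.map (kernel.ι C.g)))
    have hs : InvX.ofSect z ≫ T.map C.g = 0 := by
      refine AmpleX.hom_ext_one' ?_
      show InvX.one (InvX.ofSect z ≫ T.map C.g) = 0
      refine Eq.trans ?_ hz
      exact congrArg ((T.map C.g).app ⊤) (InvX.one_ofSect z)
    let l := hk.lift (InvX.ofSect z) hs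
    have hl : l ≫ T.map (kernel.ι C.g) = InvX.ofSect z := hk.lift_f _ hs
    obtain ⟨y, hy⟩ := QuotRep.app_top_surjective (A := A) ht2 h (InvX.one l)
    refine ⟨y, ?_⟩
    rw [hu]
    refine Eq.trans (congrArg ((T.map (kernel.ι C.g)).app ⊤) hy) ?_
    exact (congrArg InvX.one hl).trans (InvX.one_ofSect z)
  · rintro ⟨y, rfl⟩
    have h0 : T.map C.f ≫ T.map C.g = 0 := by rw [← T.map_comp, C.zero, T.map_zero]
    exact congrArg (fun φ => φ.app ⊤ y) h0

end Groth.Agent.GrModX
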