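import Groth.Prelude.Def_RelProj3
import Groth.Agent.GrModX.Comap
import Groth.Agent.GrModX.QCohTilde

/-!
# Dehomogenisation at a degree one element
-/

noncomputable section

universe u

open CategoryTheory CategoryTheory.Limits AlgebraicGeometry TopologicalSpace Opposite DirectSum
open scoped HomogeneousIdeal

set_option backward.isDefEq.respectTransparency false
set_option backward.isDefEq.respectTransparency.types false
set_option linter.style.haveILetI false
set_option linter.unusedSectionVars false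

namespace Groth.Agent.GrModX

open Groth.Agent HomogeneousLocalization

variable {A σ : Type u} [CommRing A] [SetLike σ A] [AddSubgroupClass σ A] {𝒜 : ℕ → σ} [GradedRing 𝒜]
  {M τ : Type u} [AddCommGroup M] [Module A M] [SetLike τ M] [AddSubgroupClass τ M] {ℳ : ℕ → τ}
  [SetLike.GradedSMul 𝒜 ℳ] [DirectSum.Decomposition ℳ]

theorem oext' {U : (Proj 𝒜).Opens} {c d : Γ(Proj 𝒜, U)}
    (h : ∀ y : U, (oval 𝒜 c y).val = (oval 𝒜 d y).val) : c = d :=
  Subtype.ext (funext fun y => HomogeneousLocalization.val_injective _ (h y))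

theorem val_oval_add {U : (Proj 𝒜).Opens} (c d : Γ(Proj 𝒜, U)) (y : U) :
    (oval 𝒜 (c + d) y).val = (oval 𝒜 c y).val + (oval 𝒜 d y).val := HomogeneousLocalization.val_add _ _

theorem val_oval_mul {U : (Proj 𝒜).Opens} (c d : Γ(Proj 𝒜, U)) (y : U) :
    (oval 𝒜 (c * d) y).val = (oval 𝒜 c y).val * (oval 𝒜 d y).val := HomogeneousLocalization.val_mul _ _

variable {g : A} (hg : g ∈ 𝒜 1) {U : (Proj 𝒜).Opens} (hU : U ≤ Proj.basicOpen 𝒜 g)

/-- `a ↦ a / g ^ d` in degree `d`. -/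
def scal (d : ℕ) (a : 𝒜 d) : Γ(Proj 𝒜, U) :=
  (Proj 𝒜).presheaf.map (homOfLE hU).op (Proj.awayToSection 𝒜 g (Away.mk 𝒜 hg d (a : A) (by
    simpa using a.2)))

theorem val_scal (d : ℕ) (a : 𝒜 d) (y : U) :
    (oval 𝒜 (scal hg hU d a) y).val = Localization.mk (a : A) ⟨g ^ d, pow_notMem y.1.isPrime (hU y.2) d⟩ := by
  rw [scal, oval_res, oval_awayToSection]

/-- `scal` as an additive map. -/
def scalHom (d : ℕ) : 𝒜 d →+ Γ(Proj 𝒜, U) :=
  AddMonoidHom.mk' (scal hg hU d) fun a b => oext' fun y => by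
    rw [val_oval_add, val_scal, val_scal, val_scal, Localization.add_mk_self]
    rfl

/-- Dehomogenisation of scalars. -/
def rHom : A →+* Γ(Proj 𝒜, U) :=
  (DirectSum.toSemiring (scalHom hg hU) (oext' fun y => by
      show (oval 𝒜 (scal hg hU 0 _) y).val = _
      rw [val_scal]
      refine Eq.trans ?_ (HomogeneousLocalization.val_one (x := y.1.asHomogeneousIdeal.toIdeal.primeCompl) (𝒜 := 𝒜)).symm
      simp only [pow_zero]
      exact Localization.mk_one)
    (fun {i j} a b => oext' fun y => by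
      show (oval 𝒜 (scal hg hU (i + j) _) y).val = (oval 𝒜 (scal hg hU i a * scal hg hU j b) y).val
      rw [val_oval_mul, val_scal, val_scal, val_scal, Localization.mk_mul]
      simp only [pow_add]
      rfl)).comp (DirectSum.decomposeRingEquiv 𝒜).toRingHom

theorem rHom_of_mem {d : ℕ} {a : A} (ha : a ∈ 𝒜 d) : rHom hg hU a = scal hg hU d ⟨a, ha⟩ := by
  classical
  simp only [rHom, RingHom.coe_comp, Function.comp_apply, RingEquiv.toRingHom_eq_coe, RingHom.coe_coe]
  rw [show DirectSum.decomposeRingEquiv 𝒜 a = decompose 𝒜 a from rfl, decompose_of_mem 𝒜 ha]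
  exact DirectSum.toSemiring_of _ _ _ _ _

theorem rHom_self_pow (k : ℕ) : rHom hg hU (g ^ k) = 1 := by
  rw [rHom_of_mem hg hU (show g ^ k ∈ 𝒜 k by simpa using SetLike.pow_mem_graded k hg)]
  refine oext' fun y => ?_
  rw [val_scal, show (oval 𝒜 (1 : Γ(Proj 𝒜, U)) y).val = 1 from HomogeneousLocalization.val_one]
  exact Localization.mk_self (⟨g ^ k, pow_notMem y.1.isPrime (hU y.2) k⟩ : y.1.asHomogeneousIdeal.toIdeal.primeCompl)

theorem exists_rHom_eq (hUg : U = Proj.basicOpen 𝒜 g) (c : Γ(Proj 𝒜, U)) :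
    ∃ (k : ℕ) (a : A), a ∈ 𝒜 k ∧ rHom hg hU a = c := by
  subst hUg
  obtain ⟨q, rfl⟩ := (Proj.basicOpenIsoAway 𝒜 g hg one_pos).commRingCatIsoToRingEquiv.surjective c
  obtain ⟨k, a, ha, rfl⟩ := Away.mk_surjective 𝒜 hg q
  refine ⟨k, a, by simpa using ha, ?_⟩
  rw [rHom_of_mem hg hU (show a ∈ 𝒜 k by simpa using ha)]
  refine oext' fun y => ?_
  rw [val_scal]
  exact (oval_awayToSection 𝒜 hg k ha y).symm

variable (n : ℤ)

/-- `m ↦ m / g ^ (i - n)` in degree `i`. -/
def shift (i : ℕ) (m : ℳ i) : Γ(GrMod.tilde 𝒜 ℳ n, U) :=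
  fracSect 𝒜 ℳ n U (j := i + (-n).toNat) (s := g ^ (i + (-n).toNat))
    (by simpa using SetLike.pow_mem_graded (i + (-n).toNat) hg) (fun y => pow_notMem y.1.isPrime (hU y.2) _)
    (m := g ^ n.toNat • (m : M))
    ((((deg_of_mem (ℳ := ℳ) (m := (m : M)) m.2).smul 𝒜 (show g ^ n.toNat ∈ 𝒜 n.toNat by simpa using SetLike.pow_mem_graded n.toNat hg))).congr
      (by omega))

theorem val_shift (i : ℕ) (m : ℳ i) (y : U) :
    GrMod.val (shift hg hU n i m) y = LocalizedModule.mk (g ^ n.toNat • (m : M))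
      ⟨g ^ (i + (-n).toNat), pow_notMem y.1.isPrime (hU y.2) _⟩ := val_fracSect 𝒜 ℳ n U _ _ _ y

/-- Dehomogenisation of the module. -/
def deh : M →+ Γ(GrMod.tilde 𝒜 ℳ n, U) :=
  (DirectSum.toAddMonoid fun i => AddMonoidHom.mk' (shift hg hU n i) fun a b => ext_val 𝒜 ℳ fun y => by
    change _ = GrMod.val (shift hg hU n i a) y + GrMod.val (shift hg hU n i b) y
    rw [val_shift, val_shift, val_shift, LocalizedModule.mk_add_mk, LocalizedModule.mk_eq]
    refine ⟨1, ?_⟩
    simp only [one_smul, Submonoid.smul_def, Submonoid.coe_mul, AddMemClass.coe_add, smul_add, smul_smul, mul_assoc]).comp (DirectSum.decomposeAddEquiv ℳ).toAddMonoidHom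

theorem deh_of_mem {i : ℕ} {m : M} (hm : m ∈ ℳ i) : deh (ℳ := ℳ) hg hU n m = shift hg hU n i ⟨m, hm⟩ := by
  classical
  simp only [deh, AddMonoidHom.coe_comp, Function.comp_apply, AddEquiv.coe_toAddMonoidHom,
    DirectSum.decomposeAddEquiv_apply, decompose_of_mem ℳ hm, DirectSum.toAddMonoid_of]
  rfl

theorem val_deh_of_deg {k : ℕ} {m : M} (hm : Deg ℳ ((k : ℤ) + n) m) (y : U) :
    GrMod.val (deh (ℳ := ℳ) hg hU n m) y = LocalizedModule.mk m ⟨g ^ k, pow_notMem y.1.isPrime (hU y.2) k⟩ := by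
  rcases hm with rfl | ⟨i, hi, hm⟩
  · rw [map_zero, LocalizedModule.zero_mk]; rfl
  · rw [deh_of_mem hg hU n hm, val_shift, LocalizedModule.mk_eq]
    refine ⟨1, ?_⟩
    simp only [one_smul, Submonoid.smul_def, smul_smul, ← pow_add]
    congr 2
    omega

theorem deh_smul (a : A) (m : M) : deh (ℳ := ℳ) hg hU n (a • m) = rHom hg hU a • deh (ℳ := ℳ) hg hU n m := by
  classical
  induction a using DirectSum.Decomposition.inductionOn 𝒜 with
  | zero => simp
  | @homogeneous d a =>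
    induction m using DirectSum.Decomposition.inductionOn ℳ with
    | zero => simp
    | @homogeneous i m =>
      refine ext_val 𝒜 ℳ fun y => ?_
      rw [deh_of_mem hg hU n (SetLike.GradedSMul.smul_mem a.2 m.2), rHom_of_mem hg hU a.2,
        deh_of_mem hg hU n m.2, val_smul, val_shift, val_scal, val_shift, LocalizedModule.mk_smul_mk,
        LocalizedModule.mk_eq]
      refine ⟨1, ?_⟩
      simp only [one_smul, Submonoid.smul_def, Submonoid.coe_mul, smul_smul, vadd_eq_add]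
      congr 1
      ring
    | add m m' h h' => simp only [smul_add, map_add, h, h']
  | add a a' h h' => simp only [add_smul, map_add, h, h']

theorem exists_deh_eq (hUg : U = Proj.basicOpen 𝒜 g) (z : Γ(GrMod.tilde 𝒜 ℳ n, U)) :
    ∃ (k : ℕ) (m : M), Deg ℳ ((k : ℤ) + n) m ∧ deh (ℳ := ℳ) hg hU n m = z := by
  subst hUg
  obtain ⟨k, m, hm, hval⟩ := exists_frac 𝒜 ℳ one_pos hg n z
  have hm' : Deg ℳ ((k : ℤ) + n) m := hm.congr (by push_cast; ring)
  exact ⟨k, m, hm', ext_val 𝒜 ℳ fun y => (val_deh_of_deg hg hU n hm' y).trans (hval y).symm⟩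

theorem exists_pow_smul_of_deh_eq_zero (hUg : U = Proj.basicOpen 𝒜 g) {k : ℕ} {m : M}
    (hm : Deg ℳ ((k : ℤ) + n) m) (h : deh (ℳ := ℳ) hg hU n m = 0) : ∃ N, g ^ N • m = 0 := by
  subst hUg
  refine exists_pow_smul_eq_zero_of_mk 𝒜 one_pos hg hm fun x hx => ⟨⟨g ^ k, pow_notMem x.isPrime hx k⟩, ?_⟩
  rw [← val_deh_of_deg hg hU n hm ⟨x, hx⟩, h]
  rfl

end Groth.Agent.GrModX
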