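import Groth.Prelude.Def_GrMod3
import Groth.Agent.GrModX.QCohTilde
import Groth.Agent.RelTwistX.Tensor
import Groth.Agent.InvX.BilinIso

/-!
# `M(m)~ ⊗ O(n) ⟶ M(m + n)~`
-/

noncomputable section

universe u

open CategoryTheory AlgebraicGeometry TopologicalSpace Opposite

set_option backward.isDefEq.respectTransparency false
set_option backward.isDefEq.respectTransparency.types false
set_option linter.style.haveILetI false
set_option linter.unusedSectionVars false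

namespace Groth.Agent.GrModX

open Groth.Agent

variable {A σ : Type u} [CommRing A] [SetLike σ A] [AddSubgroupClass σ A] {𝒜 : ℕ → σ} [GradedRing 𝒜]
  {M τ : Type u} [AddCommGroup M] [Module A M] [SetLike τ M] [AddSubgroupClass τ M] {ℳ : ℕ → τ}
  [SetLike.GradedSMul 𝒜 ℳ]

theorem mul_mem_tildeAt {m n p : ℤ} (h : m + n = p) (x : ProjectiveSpectrum 𝒜) {q : GrMod.LocMod 𝒜 (M := M) x}
    (hq : q ∈ GrMod.tildeAt 𝒜 ℳ m x) {l : GrTwist.Loc 𝒜 x} (hl : l ∈ GrTwist.twistAt (𝒜 := 𝒜) n x) :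
    l • q ∈ GrMod.tildeAt 𝒜 ℳ p x := by
  induction hl using Submodule.span_induction with
  | mem l hl =>
    obtain ⟨i', j', a, t, ht, hij', rfl⟩ := hl
    induction hq using Submodule.span_induction with
    | mem q hq =>
      obtain ⟨i, j, w, s, hs, hij, rfl⟩ := hq
      rw [LocalizedModule.mk_smul_mk]
      exact Submodule.subset_span ⟨i' + i, j' + j, ⟨(a : A) • (w : M), SetLike.GradedSMul.smul_mem a.2 w.2⟩,
        ⟨(t : A) * (s : A), SetLike.mul_mem_graded t.2 s.2⟩,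
        RelTwistX.notMem_prime_mul ht hs, by push_cast; omega, rfl⟩
    | zero => rw [smul_zero]; exact zero_mem _
    | add q q' _ _ h h' => rw [smul_add]; exact add_mem h h'
    | smul c q _ h =>
      rw [GrMod.a0_smul_def, smul_comm, ← GrMod.a0_smul_def]
      exact Submodule.smul_mem _ c h
  | zero => rw [zero_smul]; exact zero_mem _
  | add l l' _ _ h h' => rw [add_smul]; exact add_mem h h'
  | smul c l _ h =>
    rw [show (c • l : GrTwist.Loc 𝒜 x) = c.val * l from rfl, mul_smul, ← GrMod.a0_smul_def]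
    exact Submodule.smul_mem _ c h

/-- The product of a section of `M(m)~` with one of `O(n)`. -/
def mulSec {m n p : ℤ} (h : m + n = p) {U : (Proj 𝒜).Opens} (s : Γ(GrMod.tilde 𝒜 ℳ m, U))
    (l : Γ(GrTwist.twist 𝒜 n, U)) : Γ(GrMod.tilde 𝒜 ℳ p, U) :=
  ⟨fun x => ⟨GrTwist.val l x • GrMod.val s x,
      mul_mem_tildeAt (ℳ := ℳ) h x.1 (s.1 x).2 (l.1 x).2⟩, fun x => by
    obtain ⟨V, hxV, iV, i, j, w, q, hq, hd, he⟩ := s.2 x
    obtain ⟨V', hxV', iV', i', j', a, t, ht, hd', he'⟩ := l.2 x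
    refine ⟨V ⊓ V', ⟨hxV, hxV'⟩, homOfLE (inf_le_left.trans iV.le), i' + i, j' + j,
      ⟨(a : A) • (w : M), SetLike.GradedSMul.smul_mem a.2 w.2⟩, ⟨(t : A) * (q : A), SetLike.mul_mem_graded t.2 q.2⟩,
      fun z => RelTwistX.notMem_prime_mul (ht ⟨z.1, z.2.2⟩) (hq ⟨z.1, z.2.1⟩), ?_, fun z => ?_⟩
    · rcases hd with hd | hd
      · rcases hd' with hd' | hd'
        · exact Or.inl (by push_cast; omega)
        · exact Or.inr (show (a : A) • (w : M) = 0 by rw [hd', zero_smul])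
      · exact Or.inr (show (a : A) • (w : M) = 0 by rw [hd, smul_zero])
    · have e₁ := he ⟨z.1, z.2.1⟩
      have e₂ := he' ⟨z.1, z.2.2⟩
      change GrTwist.val l ⟨z.1, _⟩ • GrMod.val s ⟨z.1, _⟩ = _
      rw [show GrTwist.val l ⟨z.1, (inf_le_left.trans iV.le) z.2⟩ = _ from e₂,
        show GrMod.val s ⟨z.1, (inf_le_left.trans iV.le) z.2⟩ = _ from e₁, LocalizedModule.mk_smul_mk]
      rfl⟩

theorem val_mulSec {m n p : ℤ} (h : m + n = p) {U : (Proj 𝒜).Opens} (s : Γ(GrMod.tilde 𝒜 ℳ m, U))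
    (l : Γ(GrTwist.twist 𝒜 n, U)) (x : U) :
    GrMod.val (mulSec h s l) x = GrTwist.val l x • GrMod.val s x := rfl

variable (𝒜 ℳ) in
/-- The pairing. -/
def mulBilin {m n p : ℤ} (h : m + n = p) :
    H23.TensorDesc.Bilin (GrMod.tilde 𝒜 ℳ m) (GrTwist.twist 𝒜 n) (GrMod.tilde 𝒜 ℳ p) where
  b U s l := mulSec h s l
  add_left U s s' l := ext_val _ _ fun x => smul_add (GrTwist.val l x) (GrMod.val s x) (GrMod.val s' x)
  smul_left U r s l := ext_val _ _ fun x => by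
    rw [val_mulSec, val_smul, val_smul, val_mulSec, smul_comm]
  add_right U s l l' := ext_val _ _ fun x => add_smul (GrTwist.val l x) (GrTwist.val l' x) (GrMod.val s x)
  smul_right U r s l := ext_val _ _ fun x => by
    rw [val_mulSec, val_smul, val_mulSec, ← mul_smul]
    exact congrArg (· • GrMod.val s x) (GrTwist.coe_smul_val n x.1 _ _)
  res _ _ _ := rfl

theorem zVal_zero' (x : ProjectiveSpectrum 𝒜) (g : A) (h : g ∉ x.asHomogeneousIdeal) :
    RelTwistX.zVal x g h 0 = 1 := by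
  simp only [RelTwistX.zVal, Int.toNat_zero, Int.neg_zero, pow_zero]
  exact Localization.mk_one

theorem mulSec_frame_bijective {m n p : ℤ} (h : m + n = p) {U : (Proj 𝒜).Opens} {g : A} (hg : g ∈ 𝒜 1)
    (hU : GrTwistX.NonVan (𝒜 := 𝒜) g U) :
    Function.Bijective (fun s : Γ(GrMod.tilde 𝒜 ℳ m, U) =>
      mulSec h s (GrTwistX.fracSect (RelTwistX.zFrac hg n hU))) := by
  refine Function.bijective_iff_has_inverse.2 ⟨fun t =>
    mulSec (show p + -n = m by omega) t (GrTwistX.fracSect (RelTwistX.zFrac hg (-n) hU)), fun s => ?_, fun t => ?_⟩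
  · refine ext_val _ _ fun x => ?_
    rw [val_mulSec, val_mulSec, ← mul_smul]
    refine Eq.trans (congrArg (fun c : GrTwist.Loc 𝒜 x.1 => c • GrMod.val s x) ?_) (one_smul _ _)
    show RelTwistX.zVal x.1 g (hU x) (-n) * RelTwistX.zVal x.1 g (hU x) n = 1
    rw [RelTwistX.zVal_mul]
    simp only [neg_add_cancel]
    exact zVal_zero' _ _ _
  · refine ext_val _ _ fun x => ?_
    rw [val_mulSec, val_mulSec, ← mul_smul]
    refine Eq.trans (congrArg (fun c : GrTwist.Loc 𝒜 x.1 => c • GrMod.val t x) ?_) (one_smul _ _)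
    show RelTwistX.zVal x.1 g (hU x) n * RelTwistX.zVal x.1 g (hU x) (-n) = 1
    rw [RelTwistX.zVal_mul]
    simp only [add_neg_cancel]
    exact zVal_zero' _ _ _

theorem exists_degOne (hgen : (HomogeneousIdeal.irrelevant 𝒜).toIdeal = Ideal.span (𝒜 1 : Set A))
    (x : ProjectiveSpectrum 𝒜) : ∃ g ∈ 𝒜 1, g ∉ x.asHomogeneousIdeal := by
  by_contra hc
  push Not at hc
  exact x.not_irrelevant_le (show (HomogeneousIdeal.irrelevant 𝒜).toIdeal ≤ x.asHomogeneousIdeal.toIdeal by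
    rw [hgen, Ideal.span_le]; exact fun g hg => hc g hg)

/-- Standard affine neighbourhoods on which a degree-one element does not vanish. -/
theorem exists_nhd (hgen : (HomogeneousIdeal.irrelevant 𝒜).toIdeal = Ideal.span (𝒜 1 : Set A))
    {V : (Proj 𝒜).Opens} {x : ProjectiveSpectrum 𝒜} (hx : x ∈ V) :
    ∃ (W : (Proj 𝒜).Opens) (g : A), g ∈ 𝒜 1 ∧ W ≤ V ∧ x ∈ W ∧ IsAffineOpen W ∧ GrTwistX.NonVan (𝒜 := 𝒜) g W := by
  obtain ⟨g, hg, hgx⟩ := exists_degOne hgen x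
  obtain ⟨f, d, hd, hf, hxf, hfV⟩ := exists_basicOpen_le 𝒜 (V := V) (y := x) hx
  refine ⟨Proj.basicOpen 𝒜 (f * g), g, hg, ?_, RelTwistX.notMem_prime_mul hxf hgx,
    Proj.isAffineOpen_basicOpen 𝒜 _ (SetLike.mul_mem_graded hf hg) (by omega), ?_⟩
  · exact fun z hz => hfV fun hzf => hz (Ideal.mul_mem_right _ _ hzf)
  · exact fun z hzg => z.2 (Ideal.mul_mem_left _ _ hzg)

theorem nonempty_tensor_twist_iso [DirectSum.Decomposition ℳ]
    (hgen : (HomogeneousIdeal.irrelevant 𝒜).toIdeal = Ideal.span (𝒜 1 : Set A)) {m n p : ℤ} (h : m + n = p) :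
    Nonempty (CohB1.tensorMod (GrMod.tilde 𝒜 ℳ m) (GrTwist.twist 𝒜 n) ≅ GrMod.tilde 𝒜 ℳ p) :=
  ⟨@asIso _ _ _ _ (H23.TensorDesc.desc (mulBilin 𝒜 ℳ h))
    (InvX.isIso_desc_of_frames (isQCoh_tilde 𝒜 ℳ m) (isQCoh_tilde 𝒜 𝒜 n) _ fun V x hx => by
      obtain ⟨W, g, hg, hWV, hxW, hW, hnv⟩ := exists_nhd hgen hx
      exact ⟨W, _, hWV, hxW, hW, RelTwistX.isFrame_fracSect (RelTwistX.zFrac hg n hnv),
        mulSec_frame_bijective h hg hnv⟩)⟩

end Groth.Agent.GrModX
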