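import Groth.Agent.GrModX.Dehom
import Groth.Agent.GrModX.TwistMul
import Groth.Agent.QCoh.PullbackBC
import Groth.Agent.LimMod.LocBij
import Groth.Agent.QCoh.ClosedPush

/-!
# `M(n)~` under extension of the graded ring, for algebras generated in degree one
-/

noncomputable section

universe u

open CategoryTheory CategoryTheory.Limits AlgebraicGeometry TopologicalSpace Opposite DirectSum
open scoped HomogeneousIdeal

set_option backward.isDefEq.respectTransparency false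
set_option backward.isDefEq.respectTransparency.types false
set_option linter.style.haveILetI false
set_option linter.unusedSectionVars false

namespace Groth.Agent.QCoh

/-- A map of quasi-coherent modules bijective on the members of an affine cover is an isomorphism. -/
theorem isIso_of_affine_cover {X : Scheme.{u}} {K L : X.Modules} (φ : K ⟶ L) (hK : Coh.IsQCoh K)
    (hL : Coh.IsQCoh L) (h : ∀ x : X, ∃ W : X.Opens, x ∈ W ∧ IsAffineOpen W ∧ Function.Bijective (φ.app W)) :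
    IsIso φ := by
  refine isIso_of_isBasis φ (B := {O : X.Opens | ∃ W : X.Opens, O ≤ W ∧ IsAffineOpen W ∧
    Function.Bijective (φ.app W)}) (Opens.isBasis_iff_nbhd.2 fun {V y} hy => ?_) ?_
  · obtain ⟨W, hyW, hW, hb⟩ := h y
    exact ⟨V ⊓ W, ⟨W, inf_le_right, hW, hb⟩, ⟨hy, hyW⟩, inf_le_left⟩
  · rintro O ⟨W, hOW, hW, hb⟩
    refine LimMod.bijective_app_of_loc φ hW (fun _ : Unit => (1 : Γ(X, W))) hK hL (fun _ y => ?_) (fun _ x hx => ?_)
      O hOW fun x hx => ⟨(), by rw [X.basicOpen_of_isUnit isUnit_one]; exact hOW hx⟩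
    · obtain ⟨x, hx⟩ := hb.2 y
      exact ⟨0, x, by rw [hx, pow_zero, one_smul]⟩
    · exact ⟨0, by rw [pow_zero, one_smul]; exact hb.1 (hx.trans (map_zero _).symm)⟩

end Groth.Agent.QCoh

namespace Groth.Agent.GrModX

open Groth.Agent

variable {A σ : Type u} [CommRing A] [SetLike σ A] [AddSubgroupClass σ A] {𝒜 : ℕ → σ} [GradedRing 𝒜]
  {B σ' : Type u} [CommRing B] [SetLike σ' B] [AddSubgroupClass σ' B] {ℬ : ℕ → σ'} [GradedRing ℬ]
  (ψ : 𝒜 →+*ᵍ ℬ) (hψ : ℬ₊ ≤ (𝒜₊).map ψ)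
  {M τ : Type u} [AddCommGroup M] [Module A M] [SetLike τ M] [AddSubgroupClass τ M] {ℳ : ℕ → τ}
  [SetLike.GradedSMul 𝒜 ℳ] [DirectSum.Decomposition ℳ]
  {N τ' : Type u} [AddCommGroup N] [Module B N] [SetLike τ' N] [AddSubgroupClass τ' N] {𝒩 : ℕ → τ'}
  [SetLike.GradedSMul ℬ 𝒩] [DirectSum.Decomposition 𝒩]

section fixed

variable {g : A} (hg : g ∈ 𝒜 1) (n : ℤ)

theorem le_map (U : (Proj 𝒜).Opens) (hU : U ≤ Proj.basicOpen 𝒜 g) :
    Proj.map ψ hψ ⁻¹ᵁ U ≤ Proj.basicOpen ℬ (ψ g) := (Proj.map ψ hψ).preimage_mono hU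

theorem app_rHom (U : (Proj 𝒜).Opens) (hU : U ≤ Proj.basicOpen 𝒜 g) (a : A) :
    (Proj.map ψ hψ).appLE U (Proj.map ψ hψ ⁻¹ᵁ U) le_rfl (rHom hg hU a) =
      rHom (ψ.map_mem hg) (le_map ψ hψ U hU) (ψ a) := by
  classical
  induction a using DirectSum.Decomposition.inductionOn 𝒜 with
  | zero => simp
  | @homogeneous d a =>
    rw [rHom_of_mem hg hU a.2, rHom_of_mem (ψ.map_mem hg) (le_map ψ hψ U hU) (a := ψ (a : A)) (ψ.map_mem a.2)]
    refine oext' fun y => ?_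
    rw [val_scal]
    refine (congrArg HomogeneousLocalization.val (GrTwist.comapStructureSheaf_apply ψ hψ U
      (Proj.map ψ hψ ⁻¹ᵁ U) Set.Subset.rfl (scal hg hU d ⟨(a : A), a.2⟩) y)).trans ?_
    rw [HomogeneousLocalization.val_localRingHom]
    refine (congrArg _ (val_scal hg hU d ⟨(a : A), a.2⟩ ⟨_, y.2⟩)).trans ?_
    refine Eq.trans (GrTwist.locMap_mk ψ hψ y.1 _ _) ?_
    simp only [map_pow]
    rfl
  | add a a' h h' => simp only [map_add, h, h']

variable (v : M →ₛₗ[ψ.toRingHom] N) (hv : ∀ (i : ℕ) (m : M), m ∈ ℳ i → v m ∈ 𝒩 i)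

theorem comap_deh (U : (Proj 𝒜).Opens) (hU : U ≤ Proj.basicOpen 𝒜 g) (m : M) :
    (GrMod.comap ψ hψ v hv n).app U (deh (ℳ := ℳ) hg hU n m) =
      deh (ℳ := 𝒩) (ψ.map_mem hg) (le_map ψ hψ U hU) n (v m) := by
  classical
  induction m using DirectSum.Decomposition.inductionOn ℳ with
  | zero => rw [map_zero, map_zero, map_zero, map_zero]
  | @homogeneous i m =>
    refine ext_val ℬ 𝒩 fun y => ?_
    refine (GrMod.comap_app_val ψ hψ v hv n U _ y).trans ?_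
    rw [deh_of_mem hg hU n m.2, deh_of_mem (ψ.map_mem hg) (le_map ψ hψ U hU) n (hv i _ m.2), val_shift,
      val_shift, GrMod.locModMap_mk]
    simp only [LinearMap.map_smulₛₗ, map_pow]
    rfl
  | add m m' h h' => simp only [map_add, h, h']

variable (hbc : ∀ (Q : Type u) [AddCommGroup Q] [Module B Q] (w : M →ₛₗ[ψ.toRingHom] Q),
  ∃! f : N →ₗ[B] Q, ∀ m : M, f (v m) = w m)

/-- The adjunct of the comparison map. -/
abbrev adjunct : (Scheme.Modules.pullback (Proj.map ψ hψ)).obj (GrMod.tilde 𝒜 ℳ n) ⟶ GrMod.tilde ℬ 𝒩 n :=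
  ((Scheme.Modules.pullbackPushforwardAdjunction (Proj.map ψ hψ)).homEquiv _ _).symm (GrMod.comap ψ hψ v hv n)

theorem adjunct_pullSec (U : (Proj 𝒜).Opens) (x : Γ(GrMod.tilde 𝒜 ℳ n, U)) :
    (adjunct ψ hψ n v hv).app (Proj.map ψ hψ ⁻¹ᵁ U)
        (QCoh.pullSec (Proj.map ψ hψ) (GrMod.tilde 𝒜 ℳ n) le_rfl x) =
      (GrMod.comap ψ hψ v hv n).app U x := by
  have h1 : (Scheme.Modules.pullbackPushforwardAdjunction (Proj.map ψ hψ)).homEquiv _ _
      (adjunct ψ hψ n v hv) = GrMod.comap ψ hψ v hv n := Equiv.apply_symm_apply _ _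
  rw [Adjunction.homEquiv_unit] at h1
  refine Eq.trans ?_ (congr($(congrArg (fun t => Scheme.Modules.Hom.app t U) h1) x))
  show (adjunct ψ hψ n v hv).app _ (((Scheme.Modules.pullback (Proj.map ψ hψ)).obj _).presheaf.map
    (homOfLE le_rfl).op (show Γ((Scheme.Modules.pullback (Proj.map ψ hψ)).obj (GrMod.tilde 𝒜 ℳ n), Proj.map ψ hψ ⁻¹ᵁ U) from _)) = _
  exact congrArg _ (QCoh.map_id' _ _)

include hg hbc in
theorem adjunct_app_bijective {U : (Proj 𝒜).Opens} (hUg : U = Proj.basicOpen 𝒜 g) :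
    Function.Bijective ((adjunct ψ hψ n v hv).app (Proj.map ψ hψ ⁻¹ᵁ U)) := by
  classical
  have hU : U ≤ Proj.basicOpen 𝒜 g := hUg.le
  let h := Proj.map ψ hψ
  let W := h ⁻¹ᵁ U
  have hWg : W = Proj.basicOpen ℬ (ψ g) := by show h ⁻¹ᵁ U = _; rw [hUg]; rfl
  have hUa : IsAffineOpen U := hUg ▸ Proj.isAffineOpen_basicOpen 𝒜 g hg one_pos
  have hWa : IsAffineOpen W := hWg ▸ Proj.isAffineOpen_basicOpen ℬ (ψ g) (ψ.map_mem hg) one_pos
  let hW := le_map ψ hψ U hU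
  let rB := rHom (ψ.map_mem hg) hW
  let F := GrMod.tilde 𝒜 ℳ n
  let P := (Scheme.Modules.pullback h).obj F
  let C := (adjunct ψ hψ n v hv).app W
  letI : Module B Γ(P, W) := Module.compHom _ rB
  letI : Module B Γ(GrMod.tilde ℬ 𝒩 n, W) := Module.compHom _ rB
  let w : M →ₛₗ[ψ.toRingHom] Γ(P, W) :=
    { toFun := fun m => QCoh.pullSec h F le_rfl (deh hg hU n m)
      map_add' := fun m m' => by rw [map_add]; exact QCoh.pullSec_add h F le_rfl _ _
      map_smul' := fun a m => by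
        rw [deh_smul, QCoh.pullSec_smul]
        exact congrArg (· • QCoh.pullSec h F le_rfl (deh hg hU n m)) (app_rHom ψ hψ hg U hU a) }
  obtain ⟨G, hG, -⟩ := hbc _ w
  have hCG : ∀ x : N, C (G x) = deh (ℳ := 𝒩) (ψ.map_mem hg) hW n x := by
    let w' : M →ₛₗ[ψ.toRingHom] Γ(GrMod.tilde ℬ 𝒩 n, W) :=
      { toFun := fun m => deh (ℳ := 𝒩) (ψ.map_mem hg) hW n (v m)
        map_add' := fun m m' => by rw [map_add, map_add]
        map_smul' := fun a m => by rw [LinearMap.map_smulₛₗ, deh_smul]; rfl }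
    let f₁ : N →ₗ[B] Γ(GrMod.tilde ℬ 𝒩 n, W) :=
      { toFun := fun x => C (G x)
        map_add' := fun x y => by rw [map_add, map_add]
        map_smul' := fun b x => by rw [map_smul]; exact (adjunct ψ hψ n v hv).app_smul (rB b) (G x) }
    let f₂ : N →ₗ[B] Γ(GrMod.tilde ℬ 𝒩 n, W) :=
      { toFun := fun x => deh (ℳ := 𝒩) (ψ.map_mem hg) hW n x
        map_add' := fun x y => map_add _ x y
        map_smul' := fun b x => deh_smul (ψ.map_mem hg) hW n b x }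
    have e : f₁ = f₂ := (hbc _ w').unique (fun m => by
      show C (G (v m)) = deh (ℳ := 𝒩) (ψ.map_mem hg) hW n (v m)
      rw [hG]
      exact (adjunct_pullSec ψ hψ n v hv U _).trans (comap_deh ψ hψ hg n v hv U hU m)) (fun m => rfl)
    exact fun x => LinearMap.congr_fun e x
  have hGpow : ∀ (K : ℕ) (x : N), G ((ψ g) ^ K • x) = G x := fun K x => by
    rw [map_smul]
    show rB ((ψ g) ^ K) • G x = G x
    exact (congrArg (· • G x) (rHom_self_pow (ψ.map_mem hg) hW K)).trans (one_smul _ _)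
  have hrep : ∀ p : Γ(P, W), ∃ (k : ℕ) (x : N), Deg 𝒩 ((k : ℤ) + n) x ∧ G x = p := by
    letI : Algebra Γ(Proj 𝒜, U) Γ(Proj ℬ, W) := (h.appLE U W le_rfl).hom.toAlgebra
    letI : Module Γ(Proj 𝒜, U) Γ(P, W) := Module.compHom _ (algebraMap Γ(Proj 𝒜, U) Γ(Proj ℬ, W))
    haveI : IsScalarTower Γ(Proj 𝒜, U) Γ(Proj ℬ, W) Γ(P, W) := .of_algebraMap_smul fun _ _ => rfl
    let l : Γ(F, U) →ₗ[Γ(Proj 𝒜, U)] Γ(P, W) :=
      { toFun := QCoh.pullSec h F le_rfl, map_add' := QCoh.pullSec_add h F le_rfl,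
        map_smul' := QCoh.pullSec_smul h F le_rfl }
    have hb := QCoh.isBaseChange_pullback hUa h hWa (isQCoh_tilde 𝒜 ℳ n) le_rfl (fun _ => rfl) l fun _ => rfl
    intro p
    induction p using hb.inductionOn with
    | zero => exact ⟨0, 0, Deg.zero _, map_zero G⟩
    | tmul z =>
      obtain ⟨k, m, hm, rfl⟩ := exists_deh_eq hg hU n hUg z
      exact ⟨k, v m, hm.elim (fun h0 => Or.inl (h0 ▸ map_zero v)) (fun ⟨i, hi, hmem⟩ => Or.inr ⟨i, hi, hv i m hmem⟩),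
        hG m⟩
    | smul s p hp =>
      obtain ⟨k, x, hx, rfl⟩ := hp
      obtain ⟨k', b, hb', rfl⟩ := exists_rHom_eq (ψ.map_mem hg) hW hWg s
      refine ⟨k' + k, b • x, (hx.smul ℬ hb').congr (by push_cast; ring), ?_⟩
      rw [map_smul]
      rfl
    | add p q hp hq =>
      obtain ⟨k, x, hx, rfl⟩ := hp
      obtain ⟨k', x', hx', rfl⟩ := hq
      refine ⟨k + k', (ψ g) ^ k' • x + (ψ g) ^ k • x',
        ((hx.smul ℬ (by simpa using SetLike.pow_mem_graded k' (ψ.map_mem hg))).congr (by push_cast; ring)).add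
          ((hx'.smul ℬ (by simpa using SetLike.pow_mem_graded k (ψ.map_mem hg))).congr (by push_cast; ring)), ?_⟩
      rw [map_add, hGpow, hGpow]
  refine ⟨fun p q hpq => sub_eq_zero.1 ?_, fun z => ?_⟩
  · obtain ⟨k, x, hx, hGx⟩ := hrep (p - q)
    have h0 : deh (ℳ := 𝒩) (ψ.map_mem hg) hW n x = 0 := by
      rw [← hCG, hGx, map_sub]
      exact sub_eq_zero.2 hpq
    obtain ⟨K, hK⟩ := exists_pow_smul_of_deh_eq_zero (ψ.map_mem hg) hW n hWg hx h0
    exact hGx.symm.trans ((hGpow K x).symm.trans ((congrArg G hK).trans (map_zero G)))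
  · obtain ⟨k, x, -, rfl⟩ := exists_deh_eq (ψ.map_mem hg) hW n hWg z
    exact ⟨G x, hCG x⟩

end fixed

theorem isIso_adjunct (hgen : (𝒜₊).toIdeal = Ideal.span (𝒜 1 : Set A)) (v : M →ₛₗ[ψ.toRingHom] N)
    (hv : ∀ (i : ℕ) (m : M), m ∈ ℳ i → v m ∈ 𝒩 i)
    (hbc : ∀ (Q : Type u) [AddCommGroup Q] [Module B Q] (w : M →ₛₗ[ψ.toRingHom] Q),
      ∃! f : N →ₗ[B] Q, ∀ m : M, f (v m) = w m) (n : ℤ) :
    IsIso (adjunct ψ hψ n v hv) := by
  refine QCoh.isIso_of_affine_cover _ (QCoh.isQCoh_pullback _ (isQCoh_tilde 𝒜 ℳ n)) (isQCoh_tilde ℬ 𝒩 n)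
    fun y => ?_
  obtain ⟨g, hg, hgy⟩ := exists_degOne hgen (Proj.map ψ hψ y)
  refine ⟨Proj.map ψ hψ ⁻¹ᵁ Proj.basicOpen 𝒜 g, hgy, ?_, adjunct_app_bijective ψ hψ hg n v hv hbc rfl⟩
  exact Proj.isAffineOpen_basicOpen ℬ (ψ g) (ψ.map_mem hg) one_pos

end Groth.Agent.GrModX
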