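import Groth.Agent.GrModX.Dehom

/-!
# Dehomogenisation at an element of any positive degree
-/

noncomputable section

universe u

open CategoryTheory CategoryTheory.Limits AlgebraicGeometry TopologicalSpace Opposite DirectSum
open scoped HomogeneousIdeal

set_option backward.isDefEq.respectTransparency false
set_option backward.isDefEq.respectTransparency.types false
set_option linter.style.haveILetI false
set_option linter.unusedSectionVars false

namespace Groth.Agent.GrModX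

open Groth.Agent HomogeneousLocalization

variable {A σ : Type u} [CommRing A] [SetLike σ A] [AddSubgroupClass σ A] {𝒜 : ℕ → σ} [GradedRing 𝒜]
  {M τ : Type u} [AddCommGroup M] [Module A M] [SetLike τ M] [AddSubgroupClass τ M] {ℳ : ℕ → τ}
  [SetLike.GradedSMul 𝒜 ℳ] [DirectSum.Decomposition ℳ]
  {f : A} {e : ℕ} (hf : f ∈ 𝒜 e) {U : (Proj 𝒜).Opens} (hU : U ≤ Proj.basicOpen 𝒜 f)

/-- `a ↦ a / f ^ l` in degree `l * e`. -/
def scalE (l : ℕ) (a : 𝒜 (l * e)) : Γ(Proj 𝒜, U) :=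
  (Proj 𝒜).presheaf.map (homOfLE hU).op (Proj.awayToSection 𝒜 f (Away.mk 𝒜 hf l (a : A) (by
    simpa [smul_eq_mul] using a.2)))

theorem val_scalE (l : ℕ) (a : 𝒜 (l * e)) (y : U) :
    (oval 𝒜 (scalE hf hU l a) y).val = Localization.mk (a : A) ⟨f ^ l, pow_notMem y.1.isPrime (hU y.2) l⟩ := by
  rw [scalE, oval_res, oval_awayToSection]

theorem scalE_self_pow (k : ℕ) : scalE hf hU k ⟨f ^ k, pow_mem_deg 𝒜 hf k⟩ = 1 := by
  refine oext' fun y => ?_
  rw [val_scalE, show (oval 𝒜 (1 : Γ(Proj 𝒜, U)) y).val = 1 from HomogeneousLocalization.val_one]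
  exact Localization.mk_self (⟨f ^ k, pow_notMem y.1.isPrime (hU y.2) k⟩ : y.1.asHomogeneousIdeal.toIdeal.primeCompl)

theorem exists_scalE_eq (he : 0 < e) (hUf : U = Proj.basicOpen 𝒜 f) (c : Γ(Proj 𝒜, U)) :
    ∃ (l : ℕ) (a : 𝒜 (l * e)), scalE hf hU l a = c := by
  subst hUf
  obtain ⟨q, rfl⟩ := (Proj.basicOpenIsoAway 𝒜 f hf he).commRingCatIsoToRingEquiv.surjective c
  obtain ⟨k, a, ha, rfl⟩ := Away.mk_surjective 𝒜 hf q
  refine ⟨k, ⟨a, by simpa [smul_eq_mul] using ha⟩, oext' fun y => ?_⟩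
  rw [val_scalE]
  exact (oval_awayToSection 𝒜 hf k ha y).symm

variable {S : Type u} [CommRing S] (ι : S →+* A) (hι : ∀ s, ι s ∈ 𝒜 0)

/-- A ring of scalars of degree zero, as functions on `U`. -/
def scal0 : S →+* Γ(Proj 𝒜, U) where
  toFun s := scalE hf hU 0 ⟨ι s, by rw [zero_mul]; exact hι s⟩
  map_one' := oext' fun y => by
    rw [val_scalE, show (oval 𝒜 (1 : Γ(Proj 𝒜, U)) y).val = 1 from HomogeneousLocalization.val_one]
    simp only [map_one, pow_zero]
    exact Localization.mk_one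
  map_mul' s t := oext' fun y => by
    rw [val_oval_mul, val_scalE, val_scalE, val_scalE, Localization.mk_mul]
    simp only [map_mul, pow_zero, mul_one]
    exact congrArg (Localization.mk _) (Subtype.ext (by simp))
  map_zero' := oext' fun y => by
    rw [val_scalE, show (oval 𝒜 (0 : Γ(Proj 𝒜, U)) y).val = 0 from HomogeneousLocalization.val_zero]
    simp only [map_zero]
    exact Localization.mk_zero _
  map_add' s t := oext' fun y => by
    rw [val_oval_add, val_scalE, val_scalE, val_scalE, Localization.add_mk_self]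
    simp only [map_add]

theorem val_scal0 (s : S) (y : U) :
    (oval 𝒜 (scal0 hf hU ι hι s) y).val = algebraMap A _ (ι s) := by
  refine (val_scalE hf hU 0 _ y).trans ?_
  simp only [pow_zero]
  exact Localization.mk_one_eq_algebraMap (ι s)

variable (n : ℤ)

/-- `m ↦ m / f ^ ((i - n) / e)` in degree `i` congruent to `n`. -/
def shiftE (i : ℕ) (h : (e : ℤ) ∣ (i : ℤ) - n) (m : ℳ i) : Γ(GrMod.tilde 𝒜 ℳ n, U) :=
  fracSect 𝒜 ℳ n U (j := (((i : ℤ) - n) / e).toNat * e) (s := f ^ (((i : ℤ) - n) / e).toNat)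
    (pow_mem_deg 𝒜 hf _) (fun y => pow_notMem y.1.isPrime (hU y.2) _)
    (m := f ^ (-(((i : ℤ) - n) / e)).toNat • (m : M))
    ((((deg_of_mem (ℳ := ℳ) (m := (m : M)) m.2).smul 𝒜 (pow_mem_deg 𝒜 hf (-(((i : ℤ) - n) / e)).toNat))).congr (by
      obtain ⟨q, hq⟩ := h
      rcases Nat.eq_zero_or_pos e with rfl | he
      · simp at hq ⊢; omega
      rw [hq, Int.mul_ediv_cancel_left _ (by omega)]
      have h1 : ((q.toNat : ℤ)) - ((-q).toNat : ℤ) = q := by omega
      push_cast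
      linear_combination hq - (e : ℤ) * h1))

theorem val_shiftE (i : ℕ) (h : (e : ℤ) ∣ (i : ℤ) - n) (m : ℳ i) (y : U) :
    GrMod.val (shiftE hf hU n i h m) y = LocalizedModule.mk (f ^ (-(((i : ℤ) - n) / e)).toNat • (m : M))
      ⟨f ^ (((i : ℤ) - n) / e).toNat, pow_notMem y.1.isPrime (hU y.2) _⟩ := val_fracSect 𝒜 ℳ n U _ _ _ y

open Classical in
/-- Dehomogenisation of the components congruent to `n`. -/
def dehE : M →+ Γ(GrMod.tilde 𝒜 ℳ n, U) :=
  (DirectSum.toAddMonoid fun (i : ℕ) => if h : (e : ℤ) ∣ (i : ℤ) - n then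
    AddMonoidHom.mk' (shiftE hf hU n i h) fun a b => ext_val 𝒜 ℳ fun y => by
      change _ = GrMod.val (shiftE hf hU n i h a) y + GrMod.val (shiftE hf hU n i h b) y
      rw [val_shiftE, val_shiftE, val_shiftE, LocalizedModule.mk_add_mk, LocalizedModule.mk_eq]
      refine ⟨1, ?_⟩
      simp only [one_smul, Submonoid.smul_def, Submonoid.coe_mul, AddMemClass.coe_add, smul_add, smul_smul, mul_assoc]
    else 0).comp (DirectSum.decomposeAddEquiv ℳ).toAddMonoidHom

theorem dehE_of_mem {i : ℕ} {m : M} (hm : m ∈ ℳ i) (h : (e : ℤ) ∣ (i : ℤ) - n) :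
    dehE (ℳ := ℳ) hf hU n m = shiftE hf hU n i h ⟨m, hm⟩ := by
  classical
  simp only [dehE, AddMonoidHom.coe_comp, Function.comp_apply, AddEquiv.coe_toAddMonoidHom,
    DirectSum.decomposeAddEquiv_apply, decompose_of_mem ℳ hm, DirectSum.toAddMonoid_of, dif_pos h]
  rfl

theorem dehE_of_not {i : ℕ} {m : M} (hm : m ∈ ℳ i) (h : ¬ (e : ℤ) ∣ (i : ℤ) - n) :
    dehE (ℳ := ℳ) hf hU n m = 0 := by
  classical
  simp only [dehE, AddMonoidHom.coe_comp, Function.comp_apply, AddEquiv.coe_toAddMonoidHom,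
    DirectSum.decomposeAddEquiv_apply, decompose_of_mem ℳ hm, DirectSum.toAddMonoid_of, dif_neg h]
  rfl

theorem val_dehE_of_deg (he : 0 < e) {k : ℕ} {m : M} (hm : Deg ℳ ((k : ℤ) * e + n) m) (y : U) :
    GrMod.val (dehE (ℳ := ℳ) hf hU n m) y = LocalizedModule.mk m ⟨f ^ k, pow_notMem y.1.isPrime (hU y.2) k⟩ := by
  rcases hm with rfl | ⟨i, hi, hm⟩
  · rw [map_zero, LocalizedModule.zero_mk]; rfl
  · have hd : (e : ℤ) ∣ (i : ℤ) - n := ⟨k, by rw [hi]; ring⟩
    have hq : ((i : ℤ) - n) / e = k := by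
      rw [hi, add_sub_cancel_right, Int.mul_ediv_cancel _ (by omega)]
    rw [dehE_of_mem hf hU n hm hd, val_shiftE, LocalizedModule.mk_eq]
    refine ⟨1, ?_⟩
    simp only [one_smul, Submonoid.smul_def, smul_smul, ← pow_add]
    congr 2
    omega

theorem dehE_smul_of_mem (he : 0 < e) {l k : ℕ} (a : 𝒜 (l * e)) {m : M} (hm : Deg ℳ ((k : ℤ) * e + n) m) :
    dehE (ℳ := ℳ) hf hU n ((a : A) • m) = scalE hf hU l a • dehE (ℳ := ℳ) hf hU n m := by
  have h : Deg ℳ (((l + k : ℕ) : ℤ) * e + n) ((a : A) • m) := (hm.smul 𝒜 a.2).congr (by push_cast; ring)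
  refine ext_val 𝒜 ℳ fun y => ?_
  rw [val_dehE_of_deg hf hU n he h, val_smul, val_scalE, val_dehE_of_deg hf hU n he hm,
    LocalizedModule.mk_smul_mk, LocalizedModule.mk_eq]
  refine ⟨1, ?_⟩
  simp only [one_smul, Submonoid.smul_def, Submonoid.coe_mul, smul_smul]
  congr 1
  ring

theorem dehE_scalar_smul (s : S) (m : M) :
    dehE (ℳ := ℳ) hf hU n (ι s • m) = scal0 hf hU ι hι s • dehE (ℳ := ℳ) hf hU n m := by
  classical
  induction m using DirectSum.Decomposition.inductionOn ℳ with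
  | zero => simp
  | @homogeneous i m =>
    have hm : ι s • (m : M) ∈ ℳ i := by
      have h := SetLike.GradedSMul.smul_mem (A := 𝒜) (hι s) m.2
      rwa [vadd_eq_add, zero_add] at h
    by_cases hd : (e : ℤ) ∣ (i : ℤ) - n
    · refine ext_val 𝒜 ℳ fun y => ?_
      rw [dehE_of_mem hf hU n hm hd, dehE_of_mem hf hU n m.2 hd, val_smul, val_shiftE, val_shiftE, val_scal0,
        ← Localization.mk_one_eq_algebraMap, LocalizedModule.mk_smul_mk, LocalizedModule.mk_eq]
      refine ⟨1, ?_⟩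
      simp only [one_smul, one_mul, Submonoid.smul_def, smul_smul]
      congr 1
      ring
    · rw [dehE_of_not hf hU n hm hd, dehE_of_not hf hU n m.2 hd, smul_zero]
  | add m m' h h' => simp only [smul_add, map_add, h, h']

theorem exists_dehE_eq (he : 0 < e) (hUf : U = Proj.basicOpen 𝒜 f) (z : Γ(GrMod.tilde 𝒜 ℳ n, U)) :
    ∃ (k : ℕ) (m : M), Deg ℳ ((k : ℤ) * e + n) m ∧ dehE (ℳ := ℳ) hf hU n m = z := by
  subst hUf
  obtain ⟨k, m, hm, hval⟩ := exists_frac 𝒜 ℳ he hf n z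
  exact ⟨k, m, hm, ext_val 𝒜 ℳ fun y => (val_dehE_of_deg hf hU n he hm y).trans (hval y).symm⟩

theorem exists_pow_smul_of_dehE_eq_zero (he : 0 < e) (hUf : U = Proj.basicOpen 𝒜 f) {k : ℕ} {m : M}
    (hm : Deg ℳ ((k : ℤ) * e + n) m) (h : dehE (ℳ := ℳ) hf hU n m = 0) : ∃ N, f ^ N • m = 0 := by
  subst hUf
  refine exists_pow_smul_eq_zero_of_mk 𝒜 he hf hm fun x hx => ⟨⟨f ^ k, pow_notMem x.isPrime hx k⟩, ?_⟩
  rw [← val_dehE_of_deg hf hU n he hm ⟨x, hx⟩, h]
  rfl

end Groth.Agent.GrModX
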