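import Groth.Agent.GrModX.QCohTilde
import Groth.Prelude.Def_Coh
import Groth.Prelude.Def_ega3

/-!
`H⁰(Proj S, M(n)~)` as a module over the base ring: when `M_n → Γ(M(n)~)` is bijective it is `M_n`.
-/

noncomputable section

universe u

set_option backward.isDefEq.respectTransparency false
set_option backward.isDefEq.respectTransparency.types false

open CategoryTheory CategoryTheory.Limits AlgebraicGeometry TopologicalSpace DirectSum Opposite HomogeneousLocalization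

namespace Groth.Agent.GrModX.HHZero

variable {R A : Type u} [CommRing R] [CommRing A] [Algebra R A] (𝒜 : ℕ → Submodule R A) [GradedAlgebra 𝒜]

/-- The global function attached to `a : R`. -/
abbrev const (a : R) : Γ(Proj 𝒜, ⊤) :=
  Coh.toGlobal (Proj 𝒜 ↘ Spec (CommRingCat.of R)) a

theorem const_res {f : A} {d : ℕ} (hd : 0 < d) (hf : f ∈ 𝒜 d) (a : R)
    (i : Proj.basicOpen 𝒜 f ⟶ (⊤ : (Proj 𝒜).Opens)) :
    (Proj 𝒜).presheaf.map i.op (const 𝒜 a) =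
      Proj.awayToSection 𝒜 f (HomogeneousLocalization.fromZeroRingHom 𝒜 _ (algebraMap R (𝒜 0) a)) := by
  let κ : CommRingCat.of R ⟶ Γ(Proj 𝒜, Proj.basicOpen 𝒜 f) :=
    CommRingCat.ofHom (algebraMap R (𝒜 0)) ≫
      CommRingCat.ofHom (HomogeneousLocalization.fromZeroRingHom 𝒜 (Submonoid.powers f)) ≫
        Proj.awayToSection 𝒜 f
  have h0 : (Proj.basicOpen 𝒜 f).ι ≫ (Proj 𝒜 ↘ Spec (CommRingCat.of R)) =
      (Proj.basicOpen 𝒜 f).toSpecΓ ≫ Spec.map κ := by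
    have h := Proj.awayι_toSpecZero 𝒜 f hf hd
    rw [← Proj.basicOpenIsoSpec_inv_ι, Category.assoc, Iso.inv_comp_eq,
      Proj.basicOpenIsoSpec_hom, Proj.basicOpenToSpec, Category.assoc, ← Spec.map_comp] at h
    show (Proj.basicOpen 𝒜 f).ι ≫ Proj.toSpecZero 𝒜 ≫ Spec.map _ = _
    rw [← Category.assoc, h, Category.assoc, ← Spec.map_comp]
  have h := congrArg Scheme.Hom.appTop h0
  rw [Scheme.Hom.comp_appTop (Proj.basicOpen 𝒜 f).ι, Scheme.Hom.comp_appTop (Proj.basicOpen 𝒜 f).toSpecΓ,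
    Scheme.Opens.toSpecΓ_appTop, ← Category.assoc (Spec.map κ).appTop,
    Scheme.ΓSpecIso_naturality, Category.assoc] at h
  have h' := congrArg (fun φ => φ ≫ (Proj.basicOpen 𝒜 f).topIso.hom) h
  simp only [Category.assoc, Iso.inv_hom_id, Category.comp_id] at h'
  rw [Scheme.Opens.ι_appTop, Scheme.Opens.topIso_hom] at h'
  have key : ∀ {U V : (Opens (Proj 𝒜))ᵒᵖ} (p : op ⊤ ⟶ U) (q : U ⟶ V) (c : op ⊤ ⟶ V) (y : Γ(Proj 𝒜, ⊤)),
      ((Proj 𝒜).presheaf.map c).hom y = ((Proj 𝒜).presheaf.map q).hom (((Proj 𝒜).presheaf.map p).hom y) :=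
    fun p q c y => by rw [Subsingleton.elim c (p ≫ q), Functor.map_comp]; rfl
  refine ((key _ _ i.op _).trans (ConcreteCategory.congr_hom h' _)).trans ?_
  exact congrArg κ (ConcreteCategory.congr_hom (Scheme.ΓSpecIso (CommRingCat.of R)).inv_hom_id a)

theorem oval_const (a : R) (y : (⊤ : (Proj 𝒜).Opens)) :
    (oval 𝒜 (const 𝒜 a) y).val = Localization.mk (algebraMap R A a) 1 := by
  classical
  obtain ⟨f₀, hf0, hfy⟩ : ∃ f₀ : A, f₀ ∈ (HomogeneousIdeal.irrelevant 𝒜).toIdeal ∧ f₀ ∉ y.1.asHomogeneousIdeal := by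
    by_contra h
    push Not at h
    exact y.1.not_irrelevant_le h
  obtain ⟨d, hd, hfd⟩ : ∃ d, 0 < d ∧ (decompose 𝒜 f₀ d : A) ∉ y.1.asHomogeneousIdeal := by
    by_contra h
    push Not at h
    refine hfy ?_
    rw [← sum_support_decompose 𝒜 f₀]
    refine Ideal.sum_mem _ fun i _ => ?_
    rcases Nat.eq_zero_or_pos i with rfl | hpos
    · have h0 := (HomogeneousIdeal.mem_irrelevant_iff 𝒜 f₀).mp hf0
      rw [GradedRing.proj_apply] at h0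
      rw [h0]; exact zero_mem _
    · exact h i hpos
  have h := congrArg (fun c => (oval 𝒜 c (⟨y.1, hfd⟩ : Proj.basicOpen 𝒜 (decompose 𝒜 f₀ d : A))).val)
    (const_res 𝒜 hd (SetLike.coe_mem (decompose 𝒜 f₀ d)) a (homOfLE le_top))
  refine h.trans ?_
  rfl

variable {M : Type u} [AddCommGroup M] [Module R M] [Module A M] [IsScalarTower R A M]
  (ℳ : ℕ → Submodule R M) [SetLike.GradedSMul 𝒜 ℳ] [DirectSum.Decomposition ℳ]

theorem alpha_smul (n : ℕ) (a : R) (m : ℳ n) :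
    (GrMod.alpha 𝒜 ℳ n (a • m) : Γ(GrMod.tilde 𝒜 ℳ (n : ℤ), ⊤)) =
      const 𝒜 a • (GrMod.alpha 𝒜 ℳ n m : Γ(GrMod.tilde 𝒜 ℳ (n : ℤ), ⊤)) := by
  refine ext_val 𝒜 ℳ fun y => ?_
  rw [val_smul, oval_const]
  change LocalizedModule.mk ((a • m : ℳ n) : M) 1 = Localization.mk (algebraMap R A a) 1 • LocalizedModule.mk (m : M) 1
  rw [LocalizedModule.mk_smul_mk, mul_one, algebraMap_smul]
  rfl

/-- `H⁰` is the degree `n` part as soon as the canonical map is bijective. -/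
theorem nonempty_equiv (n : ℕ) (hbij : Function.Bijective (GrMod.alpha 𝒜 ℳ n)) :
    Nonempty (Coh.HH (Proj 𝒜) (GrMod.tilde 𝒜 ℳ (n : ℤ)) 0 ≃ₗ[R] ℳ n) := by
  let g : ℳ n ≃+ Γ(GrMod.tilde 𝒜 ℳ (n : ℤ), ⊤) := AddEquiv.ofBijective (GrMod.alpha 𝒜 ℳ n) hbij
  let e0 : Coh.HH (Proj 𝒜) (GrMod.tilde 𝒜 ℳ (n : ℤ)) 0 ≃+ Γ(GrMod.tilde 𝒜 ℳ (n : ℤ), ⊤) :=
    Sheaf.H.equiv₀ (Coh.toAb (GrMod.tilde 𝒜 ℳ (n : ℤ))) isTerminalTop
  refine ⟨{ e0.trans g.symm with map_smul' := fun r x => ?_ }⟩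
  show g.symm (e0 (r • x)) = r • g.symm (e0 x)
  apply g.injective
  rw [AddEquiv.apply_symm_apply]
  refine Eq.trans ?_ (alpha_smul 𝒜 ℳ n r (g.symm (e0 x))).symm
  refine (Sheaf.H.equiv₀_naturality isTerminalTop
    (Coh.smulAb (GrMod.tilde 𝒜 ℳ (n : ℤ)) (Coh.toGlobal (Proj 𝒜 ↘ Spec (CommRingCat.of R)) r)) x).symm.trans ?_
  have hres : (Coh.resTop (Proj 𝒜) (op ⊤) (Coh.toGlobal (Proj 𝒜 ↘ Spec (CommRingCat.of R)) r)) =
      Coh.toGlobal (Proj 𝒜 ↘ Spec (CommRingCat.of R)) r :=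
    ConcreteCategory.congr_hom ((Proj 𝒜).presheaf.map_id (op ⊤)) _
  exact congrArg₂ (fun (c : Γ(Proj 𝒜, ⊤)) (s : Γ(GrMod.tilde 𝒜 ℳ (n : ℤ), ⊤)) => c • s) hres
    (g.apply_symm_apply (e0 x)).symm

end Groth.Agent.GrModX.HHZero
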