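import Groth.Agent.GrModX.DehomPow
import Groth.Agent.GrModX.BaseChangeTilde

/-!
# The twisting sheaves under extension of the scalars of degree zero
-/

noncomputable section

universe u

open CategoryTheory CategoryTheory.Limits AlgebraicGeometry TopologicalSpace Opposite DirectSum
open scoped HomogeneousIdeal

set_option backward.isDefEq.respectTransparency false
set_option backward.isDefEq.respectTransparency.types false
set_option linter.style.haveILetI false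
set_option linter.unusedSectionVars false

namespace Groth.Agent.GrModX

open Groth.Agent

variable {A σ : Type u} [CommRing A] [SetLike σ A] [AddSubgroupClass σ A] {𝒜 : ℕ → σ} [GradedRing 𝒜]
  {B σ' : Type u} [CommRing B] [SetLike σ' B] [AddSubgroupClass σ' B] {ℬ : ℕ → σ'} [GradedRing ℬ]
  (ψ : 𝒜 →+*ᵍ ℬ) (hψ : ℬ₊ ≤ (𝒜₊).map ψ)

/-- A graded ring map as a semilinear map. -/
def selfMap : A →ₛₗ[ψ.toRingHom] B where
  toFun := ψ
  map_add' := map_add ψ
  map_smul' a m := map_mul ψ a m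

theorem selfMap_mem (i : ℕ) (m : A) (hm : m ∈ 𝒜 i) : selfMap ψ m ∈ ℬ i := ψ.map_mem hm

theorem proj_mul_of_deg_zero {b : B} (hb : b ∈ ℬ 0) (x : B) (j : ℕ) :
    GradedRing.proj ℬ j (b * x) = b * GradedRing.proj ℬ j x := by
  classical
  induction x using DirectSum.Decomposition.inductionOn ℬ with
  | zero => simp
  | @homogeneous i m =>
    have hbm : b * (m : B) ∈ ℬ i := by simpa using SetLike.mul_mem_graded hb m.2
    rw [GradedRing.proj_apply, GradedRing.proj_apply]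
    rcases eq_or_ne i j with rfl | hne
    · rw [decompose_of_mem_same _ hbm, decompose_of_mem_same _ m.2]
    · rw [decompose_of_mem_ne _ hbm hne, decompose_of_mem_ne _ m.2 hne, mul_zero]
  | add m m' h h' => simp only [mul_add, map_add, h, h']

theorem proj_map (a : A) (j : ℕ) : GradedRing.proj ℬ j (ψ a) = ψ (GradedRing.proj 𝒜 j a) := by
  rw [GradedRing.proj_apply, GradedRing.proj_apply, GradedRingHom.map_directSumDecompose]

theorem proj_mem (b : B) (j : ℕ) : GradedRing.proj ℬ j b ∈ ℬ j := by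
  rw [GradedRing.proj_apply]; exact SetLike.coe_mem _

theorem proj_of_mem {b : B} {j : ℕ} (hb : b ∈ ℬ j) : GradedRing.proj ℬ j b = b := by
  rw [GradedRing.proj_apply, decompose_of_mem_same _ hb]

section fixed

variable {f : A} {e : ℕ} (hf : f ∈ 𝒜 e) (n : ℤ)

theorem app_scalE (U : (Proj 𝒜).Opens) (hU : U ≤ Proj.basicOpen 𝒜 f) (l : ℕ) (a : 𝒜 (l * e)) :
    (Proj.map ψ hψ).appLE U (Proj.map ψ hψ ⁻¹ᵁ U) le_rfl (scalE hf hU l a) =
      scalE (ψ.map_mem hf) (le_map ψ hψ U hU) l ⟨ψ (a : A), ψ.map_mem a.2⟩ := by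
  refine oext' fun y => ?_
  rw [val_scalE]
  refine (congrArg HomogeneousLocalization.val (GrTwist.comapStructureSheaf_apply ψ hψ U
    (Proj.map ψ hψ ⁻¹ᵁ U) Set.Subset.rfl (scalE hf hU l a) y)).trans ?_
  rw [HomogeneousLocalization.val_localRingHom]
  refine (congrArg _ (val_scalE hf hU l a ⟨_, y.2⟩)).trans ?_
  refine Eq.trans (GrTwist.locMap_mk ψ hψ y.1 _ _) ?_
  simp only [map_pow]
  rfl

theorem comap_dehE (U : (Proj 𝒜).Opens) (hU : U ≤ Proj.basicOpen 𝒜 f) (m : A) :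
    (GrMod.comap ψ hψ (selfMap ψ) (selfMap_mem ψ) n).app U (dehE (ℳ := 𝒜) hf hU n m) =
      dehE (ℳ := ℬ) (ψ.map_mem hf) (le_map ψ hψ U hU) n (ψ m) := by
  classical
  induction m using DirectSum.Decomposition.inductionOn 𝒜 with
  | zero => rw [map_zero, map_zero, map_zero, map_zero]
  | @homogeneous i m =>
    by_cases hd : (e : ℤ) ∣ (i : ℤ) - n
    · refine ext_val ℬ ℬ fun y => ?_
      refine (GrMod.comap_app_val ψ hψ (selfMap ψ) (selfMap_mem ψ) n U _ y).trans ?_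
      rw [dehE_of_mem hf hU n m.2 hd, dehE_of_mem (ψ.map_mem hf) (le_map ψ hψ U hU) n (m := ψ (m : A)) (ψ.map_mem m.2) hd,
        val_shiftE, val_shiftE, GrMod.locModMap_mk]
      simp only [LinearMap.map_smulₛₗ, map_pow]
      rfl
    · rw [dehE_of_not hf hU n m.2 hd, dehE_of_not (ψ.map_mem hf) (le_map ψ hψ U hU) n (m := ψ (m : A)) (ψ.map_mem m.2) hd, map_zero]
  | add m m' h h' => simp only [map_add, h, h']

variable {R S : Type u} [CommRing R] [CommRing S] (ι : R →+* A) (hι : ∀ r, ι r ∈ 𝒜 0)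
  (ε : S →+* B) (hε : ∀ s, ε s ∈ ℬ 0) (γ : R →+* S) (hcomm : ∀ r, ψ (ι r) = ε (γ r))
  (hbc : ∀ (Q : Type u) [AddCommGroup Q] [Module S Q] (w : A →+ Q), (∀ r a, w (ι r * a) = γ r • w a) →
    ∃! G : B →+ Q, (∀ s b, G (ε s * b) = s • G b) ∧ ∀ a, G (ψ a) = w a)

include hf hι hε hcomm hbc in
theorem adjunct_self_app_bijective (he : 0 < e) {U : (Proj 𝒜).Opens} (hUf : U = Proj.basicOpen 𝒜 f) :
    Function.Bijective ((adjunct ψ hψ n (selfMap ψ) (selfMap_mem ψ)).app (Proj.map ψ hψ ⁻¹ᵁ U)) := by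
  classical
  have hU : U ≤ Proj.basicOpen 𝒜 f := hUf.le
  let h := Proj.map ψ hψ
  let W := h ⁻¹ᵁ U
  have hWf : W = Proj.basicOpen ℬ (ψ f) := by show h ⁻¹ᵁ U = _; rw [hUf]; rfl
  have hUa : IsAffineOpen U := hUf ▸ Proj.isAffineOpen_basicOpen 𝒜 f hf he
  have hWa : IsAffineOpen W := hWf ▸ Proj.isAffineOpen_basicOpen ℬ (ψ f) (ψ.map_mem hf) he
  let hW := le_map ψ hψ U hU
  let hf' := ψ.map_mem hf
  let τ : S →+* Γ(Proj ℬ, W) := scal0 hf' hW ε hε
  let F := GrMod.tilde 𝒜 𝒜 n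
  let P := (Scheme.Modules.pullback h).obj F
  let C := (adjunct ψ hψ n (selfMap ψ) (selfMap_mem ψ)).app W
  letI : Module S Γ(P, W) := Module.compHom _ τ
  letI : Module S Γ(GrMod.tilde ℬ ℬ n, W) := Module.compHom _ τ
  have happ0 : ∀ r, h.appLE U W le_rfl (scal0 hf hU ι hι r) = τ (γ r) := fun r =>
    (app_scalE ψ hψ hf U hU 0 _).trans (congrArg (scalE hf' hW 0) (Subtype.ext (hcomm r)))
  let w : A →+ Γ(P, W) := AddMonoidHom.mk' (fun m => QCoh.pullSec h F le_rfl (dehE hf hU n m))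
    fun m m' => by rw [map_add]; exact QCoh.pullSec_add h F le_rfl _ _
  have hw : ∀ r a, w (ι r * a) = γ r • w a := fun r a => by
    show QCoh.pullSec h F le_rfl (dehE hf hU n (ι r • a)) = τ (γ r) • w a
    rw [dehE_scalar_smul hf hU ι hι, QCoh.pullSec_smul]
    exact congrArg (· • w a) (happ0 r)
  obtain ⟨G, ⟨hGS, hG⟩, -⟩ := hbc _ w hw
  -- additive maps linear over the scalars and equal on the original ring are equal
  have hext : ∀ (Q : Type u) [AddCommGroup Q] [Module S Q] (f₁ f₂ : B →+ Q),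
      (∀ s b, f₁ (ε s * b) = s • f₁ b) → (∀ s b, f₂ (ε s * b) = s • f₂ b) →
      (∀ a, f₁ (ψ a) = f₂ (ψ a)) → ∀ b, f₁ b = f₂ b := fun Q _ _ f₁ f₂ h₁ h₂ heq b =>
    DFunLike.congr_fun ((hbc Q (f₂.comp ψ.toRingHom.toAddMonoidHom) (fun r a => by
      show f₂ (ψ (ι r * a)) = γ r • f₂ (ψ a)
      rw [map_mul, hcomm, h₂])).unique ⟨h₁, heq⟩ ⟨h₂, fun _ => rfl⟩) b
  have hCG : ∀ x : B, C (G x) = dehE (ℳ := ℬ) hf' hW n x := by
    refine hext _ (C.hom.comp G) (dehE (ℳ := ℬ) hf' hW n) (fun s b => ?_) (fun s b => ?_) (fun a => ?_)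
    · show C (G (ε s * b)) = τ s • C (G b)
      rw [hGS]
      exact (adjunct ψ hψ n (selfMap ψ) (selfMap_mem ψ)).app_smul (τ s) (G b)
    · exact dehE_scalar_smul hf' hW ε hε n s b
    · show C (G (ψ a)) = _
      rw [hG]
      exact (adjunct_pullSec ψ hψ n (selfMap ψ) (selfMap_mem ψ) U _).trans (comap_dehE ψ hψ hf n U hU a)
  -- multiplicativity
  have key₁ : ∀ (l : ℕ) (b : ℬ (l * e)) (k : ℕ) (m : A), Deg 𝒜 ((k : ℤ) * e + n) m →
      G ((b : B) * ψ m) = scalE hf' hW l b • G (ψ m) := by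
    intro l b k m hm
    let f₁ : B →+ Γ(P, W) := G.comp ((AddMonoidHom.mulRight (ψ m)).comp (GradedRing.proj ℬ (l * e)))
    let f₂ : B →+ Γ(P, W) := AddMonoidHom.mk'
      (fun x => scalE hf' hW l ⟨GradedRing.proj ℬ (l * e) x, proj_mem x _⟩ • G (ψ m)) fun x y => by
        rw [← add_smul]
        refine congrArg (· • G (ψ m)) (oext' fun z => ?_)
        rw [val_oval_add, val_scalE, val_scalE, val_scalE, Localization.add_mk_self]
        simp only [map_add]
    have heq := hext _ f₁ f₂ (fun s x => by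
        show G (GradedRing.proj ℬ (l * e) (ε s * x) * ψ m) = s • G (GradedRing.proj ℬ (l * e) x * ψ m)
        rw [proj_mul_of_deg_zero (hε s), mul_assoc, hGS])
      (fun s x => by
        show scalE hf' hW l ⟨GradedRing.proj ℬ (l * e) (ε s * x), proj_mem _ _⟩ • G (ψ m) =
          τ s • (scalE hf' hW l ⟨GradedRing.proj ℬ (l * e) x, proj_mem _ _⟩ • G (ψ m))
        rw [← mul_smul]
        refine congrArg (· • G (ψ m)) (oext' fun z => ?_)
        rw [val_oval_mul, val_scalE, val_scalE, val_scal0, ← Localization.mk_one_eq_algebraMap,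
          Localization.mk_mul]
        simp only [proj_mul_of_deg_zero (hε s), one_mul])
      (fun a => by
        show G (GradedRing.proj ℬ (l * e) (ψ a) * ψ m) = scalE hf' hW l ⟨_, proj_mem _ _⟩ • G (ψ m)
        let a' : 𝒜 (l * e) := ⟨GradedRing.proj 𝒜 (l * e) a, proj_mem a _⟩
        refine (congrArg (fun z => G (z * ψ m)) (proj_map ψ a _)).trans ?_
        rw [← map_mul, hG, hG]
        show QCoh.pullSec h F le_rfl (dehE hf hU n ((a' : A) • m)) = _
        rw [dehE_smul_of_mem hf hU n he a' hm, QCoh.pullSec_smul]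
        refine congrArg (· • w m) ((app_scalE ψ hψ hf U hU l a').trans ?_)
        exact congrArg (scalE hf' hW l) (Subtype.ext (proj_map ψ a _).symm)) (b : B)
    refine Eq.trans ?_ (heq.trans ?_)
    · show G ((b : B) * ψ m) = G (GradedRing.proj ℬ (l * e) (b : B) * ψ m)
      rw [proj_of_mem b.2]
    · exact congrArg (fun z => scalE hf' hW l z • G (ψ m)) (Subtype.ext (proj_of_mem b.2))
  have key : ∀ (l : ℕ) (b : ℬ (l * e)) (k : ℕ) (x : B), Deg ℬ ((k : ℤ) * e + n) x →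
      G ((b : B) * x) = scalE hf' hW l b • G x := by
    intro l b k x hx
    rcases hx with rfl | ⟨j, hj, hx⟩
    · rw [mul_zero, map_zero, smul_zero]
    · let f₁ : B →+ Γ(P, W) := G.comp ((AddMonoidHom.mulLeft (b : B)).comp (GradedRing.proj ℬ j))
      let f₂ : B →+ Γ(P, W) := AddMonoidHom.mk' (fun y => scalE hf' hW l b • G (GradedRing.proj ℬ j y))
        fun y y' => by rw [map_add, map_add, smul_add]
      have e₁ := hext _ f₁ f₂ (fun s y => by
          show G ((b : B) * GradedRing.proj ℬ j (ε s * y)) = s • G ((b : B) * GradedRing.proj ℬ j y)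
          rw [proj_mul_of_deg_zero (hε s), mul_left_comm, hGS])
        (fun s y => by
          show scalE hf' hW l b • G (GradedRing.proj ℬ j (ε s * y)) =
            τ s • (scalE hf' hW l b • G (GradedRing.proj ℬ j y))
          rw [proj_mul_of_deg_zero (hε s), hGS]
          exact (smul_comm (τ s) (scalE hf' hW l b) (G (GradedRing.proj ℬ j y))).symm)
        (fun a => by
          show G ((b : B) * GradedRing.proj ℬ j (ψ a)) = scalE hf' hW l b • G (GradedRing.proj ℬ j (ψ a))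
          rw [proj_map]
          exact key₁ l b k _ (Or.inr ⟨j, hj, proj_mem a j⟩)) x
      have e₂ : G ((b : B) * GradedRing.proj ℬ j x) = scalE hf' hW l b • G (GradedRing.proj ℬ j x) := e₁
      rwa [proj_of_mem hx] at e₂
  have hGpow : ∀ (K k : ℕ) (x : B), Deg ℬ ((k : ℤ) * e + n) x → G ((ψ f) ^ K * x) = G x := fun K k x hx =>
    (key K ⟨(ψ f) ^ K, pow_mem_deg ℬ hf' K⟩ k x hx).trans
      ((congrArg (· • G x) (scalE_self_pow hf' hW K)).trans (one_smul _ _))
  have hrep : ∀ p : Γ(P, W), ∃ (k : ℕ) (x : B), Deg ℬ ((k : ℤ) * e + n) x ∧ G x = p := by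
    letI : Algebra Γ(Proj 𝒜, U) Γ(Proj ℬ, W) := (h.appLE U W le_rfl).hom.toAlgebra
    letI : Module Γ(Proj 𝒜, U) Γ(P, W) := Module.compHom _ (algebraMap Γ(Proj 𝒜, U) Γ(Proj ℬ, W))
    haveI : IsScalarTower Γ(Proj 𝒜, U) Γ(Proj ℬ, W) Γ(P, W) := .of_algebraMap_smul fun _ _ => rfl
    let l : Γ(F, U) →ₗ[Γ(Proj 𝒜, U)] Γ(P, W) :=
      { toFun := QCoh.pullSec h F le_rfl, map_add' := QCoh.pullSec_add h F le_rfl,
        map_smul' := QCoh.pullSec_smul h F le_rfl }
    have hb := QCoh.isBaseChange_pullback hUa h hWa (isQCoh_tilde 𝒜 𝒜 n) le_rfl (fun _ => rfl) l fun _ => rfl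
    intro p
    induction p using hb.inductionOn with
    | zero => exact ⟨0, 0, Deg.zero _, map_zero G⟩
    | tmul z =>
      obtain ⟨k, m, hm, rfl⟩ := exists_dehE_eq hf hU n he hUf z
      exact ⟨k, ψ m, hm.elim (fun h0 => Or.inl (h0 ▸ map_zero ψ)) (fun ⟨i, hi, hmem⟩ => Or.inr ⟨i, hi, ψ.map_mem hmem⟩),
        hG m⟩
    | smul s p hp =>
      obtain ⟨k, x, hx, rfl⟩ := hp
      obtain ⟨l', b, rfl⟩ := exists_scalE_eq hf' hW he hWf s
      exact ⟨l' + k, (b : B) * x, (hx.smul ℬ b.2).congr (by push_cast; ring), key l' b k x hx⟩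
    | add p q hp hq =>
      obtain ⟨k, x, hx, rfl⟩ := hp
      obtain ⟨k', x', hx', rfl⟩ := hq
      refine ⟨k + k', (ψ f) ^ k' * x + (ψ f) ^ k * x',
        ((hx.smul ℬ (pow_mem_deg ℬ hf' k')).congr (by push_cast; ring)).add
          ((hx'.smul ℬ (pow_mem_deg ℬ hf' k)).congr (by push_cast; ring)), ?_⟩
      rw [map_add, hGpow k' k x hx, hGpow k k' x' hx']
  refine ⟨fun p q hpq => sub_eq_zero.1 ?_, fun z => ?_⟩
  · obtain ⟨k, x, hx, hGx⟩ := hrep (p - q)
    have h0 : dehE (ℳ := ℬ) hf' hW n x = 0 := by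
      rw [← hCG, hGx, map_sub]
      exact sub_eq_zero.2 hpq
    obtain ⟨K, hK⟩ := exists_pow_smul_of_dehE_eq_zero hf' hW n he hWf hx h0
    exact hGx.symm.trans ((hGpow K k x hx).symm.trans ((congrArg G hK).trans (map_zero G)))
  · obtain ⟨k, x, -, rfl⟩ := exists_dehE_eq hf' hW n he hWf z
    exact ⟨G x, hCG x⟩

end fixed

variable {R S : Type u} [CommRing R] [CommRing S] (ι : R →+* A) (hι : ∀ r, ι r ∈ 𝒜 0)
  (ε : S →+* B) (hε : ∀ s, ε s ∈ ℬ 0) (γ : R →+* S) (hcomm : ∀ r, ψ (ι r) = ε (γ r))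
  (hbc : ∀ (Q : Type u) [AddCommGroup Q] [Module S Q] (w : A →+ Q), (∀ r a, w (ι r * a) = γ r • w a) →
    ∃! G : B →+ Q, (∀ s b, G (ε s * b) = s • G b) ∧ ∀ a, G (ψ a) = w a)

include hι hε hcomm hbc in
theorem isIso_adjunct_self (n : ℤ) : IsIso (adjunct ψ hψ n (selfMap ψ) (selfMap_mem ψ)) := by
  refine QCoh.isIso_of_affine_cover _ (QCoh.isQCoh_pullback _ (isQCoh_tilde 𝒜 𝒜 n)) (isQCoh_tilde ℬ ℬ n)
    fun y => ?_
  obtain ⟨f, e, he, hf, hfy, -⟩ := exists_basicOpen_le 𝒜 (V := ⊤) (y := Proj.map ψ hψ y) trivial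
  refine ⟨Proj.map ψ hψ ⁻¹ᵁ Proj.basicOpen 𝒜 f, hfy, ?_,
    adjunct_self_app_bijective ψ hψ hf n ι hι ε hε γ hcomm hbc he rfl⟩
  exact Proj.isAffineOpen_basicOpen ℬ (ψ f) (ψ.map_mem hf) he

end Groth.Agent.GrModX
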